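import Groth.Agent.WeilResLib.PowEtale
import Groth.Agent.SubmDescLib.Sections
import Groth.Agent.AbSchLib.MulN

/-! Torsion of smooth commutative groups over henselian local rings. -/

set_option autoImplicit false
set_option linter.style.haveILetI false
set_option backward.isDefEq.respectTransparency false

universe u

open CategoryTheory CategoryTheory.Limits MonoidalCategory CartesianMonoidalCategory AlgebraicGeometry
open scoped MonObj

noncomputable section

namespace TorsLiftLib

variable {R : Type u} [CommRing R] (G : Over (Spec (CommRingCat.of R))) [GrpObj G] [IsCommMonObj G]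

/-- Powers of a smooth commutative group by invertible integers are étale. -/
theorem etale_pow [Smooth G.hom] (N : ℕ) (hN : IsUnit (N : R)) : Etale ((𝟙 G : G ⟶ G) ^ N).left := by
  let f := ((𝟙 G : G ⟶ G) ^ N).left
  haveI : FormallyUnramified f := by
    have h := AbSchLib.formallyUnramified_zpow G (N : ℤ) (by
      rw [Int.cast_natCast]
      have := hN.map (Scheme.ΓSpecIso (CommRingCat.of R)).inv.hom
      rwa [map_natCast] at this)
    rwa [zpow_natCast] at h
  haveI : Flat f := by
    refine AbSchLib.flat_of_geometric_fibres ((𝟙 G : G ⟶ G) ^ N) fun K _ _ ξ => ?_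
    letI : GrpObj ((Over.pullback ξ).obj G) := Functor.grpObjObj
    haveI : IsCommMonObj ((Over.pullback ξ).obj G) := Functor.isCommMonObj_obj (F := Over.pullback ξ)
    have hmap : ∀ n : ℕ, (Over.pullback ξ).map ((𝟙 G : G ⟶ G) ^ n) =
        (𝟙 ((Over.pullback ξ).obj G) : (Over.pullback ξ).obj G ⟶ (Over.pullback ξ).obj G) ^ n := by
      intro n
      induction n with
      | zero => rw [pow_zero, pow_zero, Functor.map_one]
      | succ n ih => rw [pow_succ, pow_succ, Functor.map_mul, ih, CategoryTheory.Functor.map_id]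
    haveI : LocallyOfFiniteType ((Over.pullback ξ).obj G).hom :=
      inferInstanceAs (LocallyOfFiniteType (pullback.snd G.hom ξ))
    have hK : (N : K) ≠ 0 := by
      have := hN.map (Spec.preimage ξ).hom
      rw [map_natCast] at this
      exact this.ne_zero
    haveI := WeilResLib.etale_pow ((Over.pullback ξ).obj G) N hK
    rw [hmap]
    infer_instance
  haveI : LocallyOfFinitePresentation (f ≫ G.hom) := by rw [Over.w]; infer_instance
  haveI : LocallyOfFiniteType (f ≫ G.hom) := by rw [Over.w]; infer_instance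
  haveI : LocallyOfFiniteType G.hom := inferInstance
  haveI : LocallyOfFinitePresentation f := Groth.Agent.S12442.lfp_of_comp_lft f G.hom
  exact Etale.of_formallyUnramified_of_flat _

theorem existsUnique_lift [HenselianLocalRing R] [Smooth G.hom] (N : ℕ) (hN : IsUnit (N : R))
    (τ : Over.mk (Spec.map (CommRingCat.ofHom (IsLocalRing.residue R))) ⟶ G) (hτ : τ ^ N = 1) :
    ∃! σ : Over.mk (𝟙 (Spec (CommRingCat.of R))) ⟶ G, σ ^ N = 1 ∧
      Over.homMk (Spec.map (CommRingCat.ofHom (IsLocalRing.residue R))) (Category.comp_id _) ≫ σ = τ := by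
  let f := ((𝟙 G : G ⟶ G) ^ N).left
  haveI : Etale f := etale_pow G N hN
  let s := Spec.map (CommRingCat.ofHom (IsLocalRing.residue R))
  let e : Spec (CommRingCat.of R) ⟶ G.left := (1 : Over.mk (𝟙 (Spec (CommRingCat.of R))) ⟶ G).left
  have he : e ≫ G.hom = 𝟙 _ := Over.w (1 : Over.mk (𝟙 (Spec (CommRingCat.of R))) ⟶ G)
  let v := pullback.snd f e
  haveI : Etale v := MorphismProperty.pullback_snd (P := @Etale) _ _ ‹_›
  haveI : LocallyOfFiniteType v := inferInstance
  have hpow : ∀ {T : Over (Spec (CommRingCat.of R))} (a : T ⟶ G), a.left ≫ f = (a ^ N).left := fun a => by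
    rw [← Over.comp_left, MonObj.comp_pow, Category.comp_id]
  have hone : ∀ {T : Over (Spec (CommRingCat.of R))}, (1 : T ⟶ G).left = T.hom ≫ e := fun {T} => by
    have h1 : (Over.homMk T.hom (Category.comp_id _) : T ⟶ Over.mk (𝟙 (Spec (CommRingCat.of R)))) ≫
        (1 : Over.mk (𝟙 (Spec (CommRingCat.of R))) ⟶ G) = 1 := MonObj.comp_one _
    rw [← h1]
    rfl
  let w : Spec (CommRingCat.of (IsLocalRing.ResidueField R)) ⟶ pullback f e :=
    pullback.lift τ.left s (by rw [hpow, hτ, hone]; rfl)
  obtain ⟨z, hz, hzw⟩ := SubmDescLib.exists_hensel_section (IsLocalRing.residue R) IsLocalRing.residue_surjective v w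
    (pullback.lift_snd _ _ _)
  have hfst : ∀ z : Spec (CommRingCat.of R) ⟶ pullback f e, z ≫ v = 𝟙 _ → (z ≫ pullback.fst f e) ≫ G.hom = 𝟙 _ := by
    intro z hz
    rw [Category.assoc, ← Over.w ((𝟙 G : G ⟶ G) ^ N), ← Category.assoc _ ((𝟙 G : G ⟶ G) ^ N).left, pullback.condition,
      Category.assoc, he, Category.comp_id]
    exact hz
  let σ : Over.mk (𝟙 (Spec (CommRingCat.of R))) ⟶ G := Over.homMk (z ≫ pullback.fst f e) (hfst z hz)
  refine ⟨σ, ⟨?_, ?_⟩, fun σ' ⟨h1, h2⟩ => ?_⟩
  · refine Over.OverMorphism.ext ?_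
    rw [← hpow, hone]
    show (z ≫ pullback.fst f e) ≫ f = 𝟙 _ ≫ e
    rw [Category.assoc, pullback.condition, ← Category.assoc]
    exact congrArg (· ≫ e) hz
  · refine Over.OverMorphism.ext ?_
    show s ≫ z ≫ pullback.fst f e = τ.left
    rw [← Category.assoc, hzw, pullback.lift_fst]
  · let z' : Spec (CommRingCat.of R) ⟶ pullback f e := pullback.lift σ'.left (𝟙 _) (by rw [hpow, h1, hone]; rfl)
    have hz' : z' ≫ v = 𝟙 _ := pullback.lift_snd _ _ _
    have hzz : z' = z := SubmDescLib.local_hom_ext (IsLocalRing.residue R) IsLocalRing.residue_surjective v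
      (hz'.trans hz.symm) (by
        rw [hzw]
        refine pullback.hom_ext ?_ ?_
        · rw [Category.assoc, pullback.lift_fst, pullback.lift_fst]
          exact congrArg CommaMorphism.left h2
        · rw [Category.assoc, pullback.lift_snd, pullback.lift_snd, Category.comp_id])
    refine Over.OverMorphism.ext ?_
    show σ'.left = z ≫ pullback.fst f e
    rw [← hzz, pullback.lift_fst]

end TorsLiftLib
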